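import Cfsg.Agent.Lib.Helper36.Stu.Defs

/-!
# Project STU (S2318): package MULT1 (multiplicity one, Gelfand-Graev)

Direct representation-theoretic proof: the twisted averaging operators over `U` are idempotents
of trace `χ(1)/|U|`; a common eigenvector `v` of `B` in the `U`-fixed space exists; all vectors
`e_lam (ρ g v)` lie on one line, and `ρ(G) v` spans the whole space.
-/

set_option autoImplicit false

namespace Cfsg.Agent.Lib.Helper10.Stu

open Cfsg.Agent.Lib.Helper36.Stu

universe u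

/-- The twisted averaging operator of a linear character `lam` of `U`, for a representation whose
character vanishes on `U \ {1}`. -/
theorem exists_twisted_proj {G : Type u} [Group G] [Finite G] {n : ℕ}
    (ρ : Representation ℂ G (Fin n → ℂ)) (U : Subgroup G) (lam : G → ℂ)
    (hlam : ∀ u ∈ U, ∀ u' ∈ U, lam (u * u') = lam u * lam u') (hlam1 : lam 1 = 1)
    (hvan : ∀ u ∈ U, u ≠ 1 → ρ.character u = 0) :
    ∃ e : Module.End ℂ (Fin n → ℂ),
      (∀ u ∈ U, ρ u * e = lam u • e) ∧ (∀ u ∈ U, e * ρ u = lam u • e) ∧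
      (Module.finrank ℂ (LinearMap.range e) : ℂ) * (Nat.card U : ℂ) = (n : ℂ) := by
  classical
  have : Fintype U := Fintype.ofFinite U
  have hcard : (Nat.card U : ℂ) ≠ 0 := by exact_mod_cast Nat.card_pos.ne'
  have hinv : ∀ u ∈ U, lam u * lam u⁻¹ = 1 := fun u hu => by
    rw [← hlam u hu u⁻¹ (U.inv_mem hu), mul_inv_cancel, hlam1]
  have hne : ∀ u ∈ U, lam u ≠ 0 := fun u hu h => by
    have := hinv u hu
    rw [h, zero_mul] at this
    exact zero_ne_one this
  let s : Module.End ℂ (Fin n → ℂ) := ∑ w : U, (lam (w : G))⁻¹ • ρ (w : G)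
  have hs1 : ∀ u ∈ U, ρ u * s = lam u • s := by
    intro u hu
    show ρ u * ∑ w : U, (lam (w : G))⁻¹ • ρ (w : G) = lam u • ∑ w : U, (lam (w : G))⁻¹ • ρ (w : G)
    rw [Finset.mul_sum, Finset.smul_sum,
      ← Equiv.sum_comp (Equiv.mulLeft (⟨u, hu⟩ : U))
        (fun w : U => lam u • (lam (w : G))⁻¹ • ρ (w : G))]
    refine Finset.sum_congr rfl (fun w _ => ?_)
    simp only [Equiv.coe_mulLeft, Subgroup.coe_mul]
    rw [mul_smul_comm, ← map_mul, smul_smul, hlam u hu w w.2, mul_inv, ← mul_assoc,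
      mul_inv_cancel₀ (hne u hu), one_mul]
  have hs2 : ∀ u ∈ U, s * ρ u = lam u • s := by
    intro u hu
    show (∑ w : U, (lam (w : G))⁻¹ • ρ (w : G)) * ρ u = lam u • ∑ w : U, (lam (w : G))⁻¹ • ρ (w : G)
    rw [Finset.sum_mul, Finset.smul_sum,
      ← Equiv.sum_comp (Equiv.mulRight (⟨u, hu⟩ : U))
        (fun w : U => lam u • (lam (w : G))⁻¹ • ρ (w : G))]
    refine Finset.sum_congr rfl (fun w _ => ?_)
    simp only [Equiv.coe_mulRight, Subgroup.coe_mul]
    rw [smul_mul_assoc, ← map_mul, smul_smul, hlam w w.2 u hu, mul_inv, mul_comm (lam (w : G))⁻¹,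
      ← mul_assoc, mul_inv_cancel₀ (hne u hu), one_mul]
  refine ⟨(Nat.card U : ℂ)⁻¹ • s, ?_, ?_, ?_⟩
  · intro u hu
    rw [mul_smul_comm, hs1 u hu, smul_comm]
  · intro u hu
    rw [smul_mul_assoc, hs2 u hu, smul_comm]
  · have hse : s * ((Nat.card U : ℂ)⁻¹ • s) = s := by
      have h1 : ∀ w : U, ((lam (w : G))⁻¹ • ρ (w : G)) * s = s := by
        intro w
        rw [smul_mul_assoc, hs1 w w.2, smul_smul, inv_mul_cancel₀ (hne w w.2), one_smul]
      have h2 : s * s = (Nat.card U : ℂ) • s := by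
        conv_lhs => rw [show s = ∑ w : U, (lam (w : G))⁻¹ • ρ (w : G) from rfl, Finset.sum_mul]
        rw [Finset.sum_congr rfl (fun w _ => h1 w), Finset.sum_const, Finset.card_univ,
          Nat.card_eq_fintype_card, Nat.cast_smul_eq_nsmul]
      rw [mul_smul_comm, h2, smul_smul, inv_mul_cancel₀ hcard, one_smul]
    have hidem : IsIdempotentElem ((Nat.card U : ℂ)⁻¹ • s) := by
      show ((Nat.card U : ℂ)⁻¹ • s) * ((Nat.card U : ℂ)⁻¹ • s) = (Nat.card U : ℂ)⁻¹ • s
      rw [smul_mul_assoc, hse]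
    have htr : LinearMap.trace ℂ (Fin n → ℂ) ((Nat.card U : ℂ)⁻¹ • s) = (Nat.card U : ℂ)⁻¹ * n := by
      rw [map_smul, smul_eq_mul]
      congr 1
      show LinearMap.trace ℂ (Fin n → ℂ) (∑ w : U, (lam (w : G))⁻¹ • ρ (w : G)) = n
      rw [map_sum, Finset.sum_eq_single (1 : U)]
      · rw [map_smul, Subgroup.coe_one, hlam1, inv_one, one_smul, map_one, LinearMap.trace_one,
          Module.finrank_fin_fun]
      · intro w _ hw
        rw [map_smul]
        have : ρ.character (w : G) = 0 := hvan w w.2 (fun h => hw (Subtype.ext h))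
        rw [show LinearMap.trace ℂ (Fin n → ℂ) (ρ (w : G)) = ρ.character (w : G) from rfl, this,
          smul_zero]
      · intro h
        exact absurd (Finset.mem_univ _) h
    have hproj := (LinearMap.IsIdempotentElem.isProj_range _ hidem).trace
    rw [htr] at hproj
    rw [← hproj, mul_comm, ← mul_assoc, mul_inv_cancel₀ hcard, one_mul]

/-- A family of endomorphisms, commuting on an invariant nonzero subspace `X` of a
finite-dimensional complex vector space, has a common eigenvector in `X`. -/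
theorem exists_common_eigvec {W : Type*} [AddCommGroup W] [Module ℂ W] [FiniteDimensional ℂ W]
    (T : Set (Module.End ℂ W)) :
    ∀ (d : ℕ) (X : Submodule ℂ W), Module.finrank ℂ X = d → X ≠ ⊥ →
      (∀ f ∈ T, ∀ x ∈ X, f x ∈ X) →
      (∀ f ∈ T, ∀ g ∈ T, ∀ x ∈ X, f (g x) = g (f x)) →
      ∃ v ∈ X, v ≠ 0 ∧ ∀ f ∈ T, ∃ μ : ℂ, f v = μ • v := by
  intro d
  induction d using Nat.strong_induction_on with
  | _ d ih =>
    intro X hd hX hinv hcomm
    by_cases hall : ∀ f ∈ T, ∃ μ : ℂ, ∀ x ∈ X, f x = μ • x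
    · obtain ⟨v, hv, hv0⟩ := Submodule.exists_mem_ne_zero_of_ne_bot hX
      exact ⟨v, hv, hv0, fun f hf => (hall f hf).imp (fun μ hμ => hμ v hv)⟩
    · push Not at hall
      obtain ⟨f, hf, hfne⟩ := hall
      have : Nontrivial X := Submodule.nontrivial_iff_ne_bot.mpr hX
      obtain ⟨μ, hμ⟩ := Module.End.exists_eigenvalue (f.restrict (hinv f hf))
      obtain ⟨w, hw⟩ := hμ.exists_hasEigenvector
      let X' : Submodule ℂ W := X ⊓ LinearMap.ker (f - μ • (1 : Module.End ℂ W))
      have hX'le : X' ≤ X := inf_le_left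
      have hmem : ∀ x, x ∈ X' ↔ x ∈ X ∧ f x = μ • x := by
        intro x
        simp only [X', Submodule.mem_inf, LinearMap.mem_ker, LinearMap.sub_apply,
          LinearMap.smul_apply, Module.End.one_apply, sub_eq_zero]
      have hX'ne : X' ≠ ⊥ := by
        intro hbot
        have hwX' : (w : W) ∈ X' := (hmem _).mpr ⟨w.2, by
          have := hw.apply_eq_smul
          exact congrArg Subtype.val this⟩
        rw [hbot, Submodule.mem_bot] at hwX'
        exact hw.2 (Subtype.ext hwX')
      have hlt : X' < X := by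
        refine lt_of_le_of_ne hX'le (fun heq => ?_)
        obtain ⟨x, hx, hxne⟩ := hfne μ
        exact hxne (((hmem x).mp (heq ▸ hx)).2)
      have hfr : Module.finrank ℂ X' < d := hd ▸ Submodule.finrank_lt_finrank_of_lt hlt
      obtain ⟨v, hv, hv0, hv2⟩ := ih _ hfr X' rfl hX'ne
        (fun g hg x hx => (hmem _).mpr ⟨hinv g hg x ((hmem x).mp hx).1, by
          rw [hcomm f hf g hg x ((hmem x).mp hx).1, ((hmem x).mp hx).2, map_smul]⟩)
        (fun g hg g' hg' x hx => hcomm g hg g' hg' x (hX'le hx))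
      exact ⟨v, hX'le hv, hv0, hv2⟩

/-- **MULT1** (multiplicity one, Gelfand-Graev). -/
theorem pkgMult1 : PkgMult1.{u} := by
  intro G _ _ U B lam g₀ χ hUB hnorm hab hlam hlam1 hg₀ hcov hχ hvan
  classical
  obtain ⟨n, ρ, hirr, rfl⟩ := hχ
  rw [Representation.char_one, Module.finrank_fin_fun]
  have : IsSimpleOrder (Subrepresentation ρ) := hirr
  have hn : 0 < n := by
    by_contra h
    have hn0 : n = 0 := by omega
    subst hn0
    have hsub : Subsingleton (Submodule ℂ (Fin 0 → ℂ)) := (Submodule.subsingleton_iff ℂ).mpr inferInstance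
    have : (⊥ : Subrepresentation ρ) = ⊤ :=
      Subrepresentation.toSubmodule_injective (Subsingleton.elim _ _)
    exact bot_ne_top this
  obtain ⟨e1, he1a, -, he1r⟩ := exists_twisted_proj ρ U (fun _ => 1) (by intros; simp) rfl hvan
  obtain ⟨eL, -, heLb, heLr⟩ := exists_twisted_proj ρ U lam hlam hlam1 hvan
  -- the space of `U`-fixed vectors
  let WU : Submodule ℂ (Fin n → ℂ) :=
    { carrier := {w | ∀ u ∈ U, ρ u w = w}
      add_mem' := fun {a b} ha hb u hu => by rw [map_add, ha u hu, hb u hu]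
      zero_mem' := fun u _ => map_zero _
      smul_mem' := fun c x hx u hu => by rw [map_smul, hx u hu] }
  have hrange1 : LinearMap.range e1 ≤ WU := by
    rintro _ ⟨y, rfl⟩ u hu
    have := congrArg (fun f : Module.End ℂ (Fin n → ℂ) => f y) (he1a u hu)
    simpa using this
  have hWUne : WU ≠ ⊥ := by
    intro hbot
    have h0 : LinearMap.range e1 = ⊥ := le_bot_iff.mp (hbot ▸ hrange1)
    rw [h0, finrank_bot] at he1r
    have : (n : ℂ) = 0 := by rw [← he1r]; simp
    have : n = 0 := by exact_mod_cast this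
    omega
  -- `B` acts on `WU` by commuting operators
  have hinvT : ∀ f ∈ (fun b : G => ρ b) '' (B : Set G), ∀ x ∈ WU, f x ∈ WU := by
    rintro _ ⟨b, hb, rfl⟩ x hx u hu
    have hu' : b⁻¹ * u * b ∈ U := by
      have := hnorm b⁻¹ (B.inv_mem hb) u hu
      rwa [inv_inv] at this
    have h1 : ρ u (ρ b x) = ρ b (ρ (b⁻¹ * u * b) x) := by
      rw [← Module.End.mul_apply, ← Module.End.mul_apply, ← map_mul, ← map_mul]
      congr 2
      group
    rw [h1, hx _ hu']
  have hcommT : ∀ f ∈ (fun b : G => ρ b) '' (B : Set G), ∀ g ∈ (fun b : G => ρ b) '' (B : Set G),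
      ∀ x ∈ WU, f (g x) = g (f x) := by
    rintro _ ⟨b, hb, rfl⟩ _ ⟨b', hb', rfl⟩ x hx
    have hc : b * b' * b⁻¹ * b'⁻¹ ∈ U := hab b hb b' hb'
    have hx' : ρ b' (ρ b x) ∈ WU :=
      hinvT _ ⟨b', hb', rfl⟩ _ (hinvT _ ⟨b, hb, rfl⟩ x hx)
    have h1 : ρ b (ρ b' x) = ρ (b * b' * b⁻¹ * b'⁻¹) (ρ b' (ρ b x)) := by
      rw [← Module.End.mul_apply, ← Module.End.mul_apply, ← Module.End.mul_apply, ← map_mul,
        ← map_mul, ← map_mul]
      congr 2
      group
    rw [h1]
    exact hx' _ hc
  obtain ⟨v, hvWU, hv0, hveig⟩ :=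
    exists_common_eigvec ((fun b : G => ρ b) '' (B : Set G)) _ WU rfl hWUne hinvT hcommT
  -- all `eL (ρ g v)` lie on one line
  have hkey : ∀ g : G, eL (ρ g v) ∈ Submodule.span ℂ {eL (ρ g₀ v)} := by
    intro g
    rcases hcov g with ⟨u, hu, b, hb, rfl⟩ | ⟨u, hu, hgu, hlu⟩
    · obtain ⟨μ, hμ⟩ := hveig (ρ b) ⟨b, hb, rfl⟩
      have h2 := congrArg (fun f : Module.End ℂ (Fin n → ℂ) => f (ρ g₀ v)) (heLb u hu)
      simp only [Module.End.mul_apply, LinearMap.smul_apply] at h2
      have h1 : eL (ρ (u * g₀ * b) v) = (μ * lam u) • eL (ρ g₀ v) := by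
        rw [map_mul, map_mul, Module.End.mul_apply, Module.End.mul_apply, hμ, map_smul, map_smul,
          map_smul, h2, smul_smul]
      rw [h1]
      exact Submodule.smul_mem _ _ (Submodule.mem_span_singleton_self _)
    · have h3 : ρ (g⁻¹ * u * g) v = v := hvWU _ hgu
      have h4 : ρ u (ρ g v) = ρ g (ρ (g⁻¹ * u * g) v) := by
        rw [← Module.End.mul_apply, ← Module.End.mul_apply, ← map_mul, ← map_mul]
        congr 2
        group
      rw [h3] at h4
      have h2 := congrArg (fun f : Module.End ℂ (Fin n → ℂ) => f (ρ g v)) (heLb u hu)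
      simp only [Module.End.mul_apply, LinearMap.smul_apply] at h2
      rw [h4] at h2
      have h5 : eL (ρ g v) = 0 := by
        have : (1 - lam u) • eL (ρ g v) = 0 := by rw [sub_smul, one_smul, ← h2, sub_self]
        rcases smul_eq_zero.mp this with h | h
        · exact absurd (sub_eq_zero.mp h).symm hlu
        · exact h
      rw [h5]
      exact Submodule.zero_mem _
  -- `ρ(G) v` spans everything
  let S : Submodule ℂ (Fin n → ℂ) := Submodule.span ℂ (Set.range fun g : G => ρ g v)
  have hSinv : ∀ (g : G) ⦃w : Fin n → ℂ⦄, w ∈ S → ρ g w ∈ S := by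
    intro g w hw
    induction hw using Submodule.span_induction with
    | mem x hx =>
      obtain ⟨h, rfl⟩ := hx
      rw [← Module.End.mul_apply, ← map_mul]
      exact Submodule.subset_span ⟨g * h, rfl⟩
    | zero => rw [map_zero]; exact Submodule.zero_mem _
    | add x y _ _ hx hy => rw [map_add]; exact Submodule.add_mem _ hx hy
    | smul c x _ hx => rw [map_smul]; exact Submodule.smul_mem _ c hx
  have hStop : S = ⊤ := by
    rcases eq_bot_or_eq_top (⟨S, hSinv⟩ : Subrepresentation ρ) with h | h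
    · exfalso
      have h' : S = ⊥ := congrArg Subrepresentation.toSubmodule h
      have hvS : v ∈ S := Submodule.subset_span ⟨1, by simp⟩
      rw [h', Submodule.mem_bot] at hvS
      exact hv0 hvS
    · exact congrArg Subrepresentation.toSubmodule h
  have hrangeL : LinearMap.range eL ≤ Submodule.span ℂ {eL (ρ g₀ v)} := by
    rintro _ ⟨y, rfl⟩
    have hy : y ∈ S := hStop ▸ Submodule.mem_top
    induction hy using Submodule.span_induction with
    | mem x hx => obtain ⟨g, rfl⟩ := hx; exact hkey g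
    | zero => rw [map_zero]; exact Submodule.zero_mem _
    | add x y _ _ hx hy => rw [map_add]; exact Submodule.add_mem _ hx hy
    | smul c x _ hx => rw [map_smul]; exact Submodule.smul_mem _ c hx
  have hle1 : Module.finrank ℂ (LinearMap.range eL) ≤ 1 := by
    refine (Submodule.finrank_mono hrangeL).trans ?_
    refine (finrank_span_le_card ({eL (ρ g₀ v)} : Set (Fin n → ℂ))).trans ?_
    simp
  have hge1 : 1 ≤ Module.finrank ℂ (LinearMap.range eL) := by
    by_contra h
    have h0 : Module.finrank ℂ (LinearMap.range eL) = 0 := by omega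
    rw [h0] at heLr
    have : (n : ℂ) = 0 := by rw [← heLr]; simp
    have : n = 0 := by exact_mod_cast this
    omega
  have h1 : Module.finrank ℂ (LinearMap.range eL) = 1 := le_antisymm hle1 hge1
  rw [h1] at heLr
  simpa using heLr.symm

end Cfsg.Agent.Lib.Helper10.Stu
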